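import Groth.Agent.QFormLib.Azumaya
import Mathlib.RingTheory.Unramified.Finite
import Mathlib.RingTheory.Etale.StandardEtale
import Mathlib.RingTheory.Spectrum.Prime.FreeLocus

/-!
# The even Clifford algebra of a regular form of even rank over its centre
-/

set_option autoImplicit false

namespace Groth.Agent.EvenCliff

open CliffordAlgebra MulOpposite Polynomial Groth.Agent.QFormLib
open scoped TensorProduct

universe u v

variable {R : Type u} [CommRing R] {M : Type v} [AddCommGroup M] [Module R M] {n : ℕ}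
  (b : Module.Basis (Fin n) R M) (Q : QuadraticForm R M) {m : ℕ} (hn : n = 2 * m) (hQ : QuadGrp.IsRegular Q)
  (hm : 0 < m)

/-- The even part. -/
abbrev Ev := ↥(CliffordAlgebra.even Q)

/-- Its centre. -/
abbrev Zc := ↥(Subalgebra.center R (Ev Q))

/-- The even part as an algebra over its centre. -/
@[reducible] noncomputable def zAlg : Algebra (Zc Q) (Ev Q) :=
  (Subalgebra.center R (Ev Q)).val.toRingHom.toAlgebra' (fun c x => (Subalgebra.mem_center_iff.mp c.2 x).symm)

attribute [local instance] zAlg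

/-- The module structure given by `zAlg`. -/
@[reducible] noncomputable def zMod : Module (Zc Q) (Ev Q) := (zAlg Q).toModule

/-- The scalar multiplication given by `zAlg`. -/
@[reducible] noncomputable def zSMul : SMul (Zc Q) (Ev Q) := (zAlg Q).toSMul

/-- The algebra structure on the opposite algebra. -/
@[reducible] noncomputable def zAlgOp : Algebra (Zc Q) (Ev Q)ᵐᵒᵖ := inferInstance

/-- The module structure given by `zAlgOp`. -/
@[reducible] noncomputable def zModOp : Module (Zc Q) (Ev Q)ᵐᵒᵖ := (zAlgOp Q).toModule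

/-- The scalar multiplication given by `zAlgOp`. -/
@[reducible] noncomputable def zSMulOp : SMul (Zc Q) (Ev Q)ᵐᵒᵖ := (zAlgOp Q).toSMul

attribute [local instance 100000] zMod zSMul zAlgOp zModOp zSMulOp

instance : IsScalarTower R (Zc Q) (Ev Q) := IsScalarTower.of_algebraMap_eq fun _ => rfl

instance : SMulCommClass (Zc Q) (Ev Q) (Ev Q) := Algebra.to_smulCommClass (R := Zc Q) (A := Ev Q)

instance : IsScalarTower (Zc Q) (Ev Q) (Ev Q) := IsScalarTower.right (R := Zc Q) (A := Ev Q)

theorem algebraMap_zc (c : Zc Q) : algebraMap (Zc Q) (Ev Q) c = (c : Ev Q) := rfl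

/-- The projection to the even part. -/
noncomputable def pr : CliffordAlgebra Q →ₗ[R] Ev Q :=
  Submodule.projectionOnto (evenOdd Q 0) (evenOdd Q 1) (evenOdd_isCompl Q)

theorem pr_coe (x : Ev Q) : pr Q (x : CliffordAlgebra Q) = x :=
  Submodule.projectionOnto_apply_left (evenOdd_isCompl Q) x

theorem pr_of_odd {x : CliffordAlgebra Q} (hx : x ∈ evenOdd Q 1) : pr Q x = 0 :=
  Submodule.projectionOnto_apply_right (evenOdd_isCompl Q) ⟨x, hx⟩

theorem pr_of_even {x : CliffordAlgebra Q} (hx : x ∈ evenOdd Q 0) : (pr Q x : CliffordAlgebra Q) = x :=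
  congrArg Subtype.val (pr_coe Q ⟨x, hx⟩)

theorem pr_add_of_odd (x : CliffordAlgebra Q) {y : CliffordAlgebra Q} (hy : y ∈ evenOdd Q 1) :
    (pr Q (x + y) : CliffordAlgebra Q) = pr Q x := by
  rw [map_add, pr_of_odd Q hy, add_zero]

theorem mul_mem_grade {i j k : ZMod 2} (h : i + j = k) {x y : CliffordAlgebra Q} (hx : x ∈ evenOdd Q i)
    (hy : y ∈ evenOdd Q j) : x * y ∈ evenOdd Q k := h ▸ SetLike.mul_mem_graded hx hy

theorem pr_mul_mul (a c : CliffordAlgebra Q) (x : Ev Q) :
    (pr Q (a * x * c) : CliffordAlgebra Q) =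
      pr Q a * x * pr Q c + (a - pr Q a) * x * (c - pr Q c) := by
  obtain ⟨a0, ha0, a1, ha1, rfl⟩ := exists_even_odd_decomp Q a
  obtain ⟨c0, hc0, c1, hc1, rfl⟩ := exists_even_odd_decomp Q c
  have hx : (x : CliffordAlgebra Q) ∈ evenOdd Q 0 := x.2
  have hpa : (pr Q (a0 + a1) : CliffordAlgebra Q) = a0 := by rw [pr_add_of_odd Q a0 ha1, pr_of_even Q ha0]
  have hpc : (pr Q (c0 + c1) : CliffordAlgebra Q) = c0 := by rw [pr_add_of_odd Q c0 hc1, pr_of_even Q hc0]
  rw [hpa, hpc, add_sub_cancel_left, add_sub_cancel_left,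
    show (a0 + a1) * x * (c0 + c1) = (a0 * x * c0 + a1 * x * c1) + (a0 * x * c1 + a1 * x * c0) by noncomm_ring]
  have h00 : a0 * x * c0 ∈ evenOdd Q 0 := mul_mem_grade Q (zero_add 0) (mul_mem_grade Q (zero_add 0) ha0 hx) hc0
  have h11 : a1 * x * c1 ∈ evenOdd Q 0 :=
    mul_mem_grade Q (show (1 : ZMod 2) + 1 = 0 from rfl) (mul_mem_grade Q (add_zero 1) ha1 hx) hc1
  have h01 : a0 * x * c1 ∈ evenOdd Q 1 := mul_mem_grade Q (zero_add 1) (mul_mem_grade Q (zero_add 0) ha0 hx) hc1
  have h10 : a1 * x * c0 ∈ evenOdd Q 1 := mul_mem_grade Q (add_zero 1) (mul_mem_grade Q (add_zero 1) ha1 hx) hc0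
  rw [pr_add_of_odd Q _ (Submodule.add_mem _ h01 h10), pr_of_even Q (Submodule.add_mem _ h00 h11)]

/-! ## The generator of the centre -/

/-- The generator as an element of the centre. -/
noncomputable def zc : Zc Q :=
  ⟨⟨zEl b Q hn, zEl_mem b Q hn⟩, Subalgebra.mem_center_iff.mpr fun y => Subtype.ext (zEl_comm_even b Q hn y.2).symm⟩

/-- Its conjugate. -/
noncomputable def zbc : Zc Q := algebraMap R _ (pEl b Q hn) - zc b Q hn

theorem coe_zc : ((zc b Q hn : Ev Q) : CliffordAlgebra Q) = zEl b Q hn := rfl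

theorem coe_zbc : ((zbc b Q hn : Ev Q) : CliffordAlgebra Q) = algebraMap R _ (pEl b Q hn) - zEl b Q hn := rfl

include hn hQ in
theorem exists_wc : ∃ w : Zc Q, (zc b Q hn - zbc b Q hn) * w = 1 := by
  obtain ⟨d, hd⟩ := ((isUnit_neg_one (α := R)).pow m).mul (isUnit_det_polMat b Q hQ)
  refine ⟨(↑d⁻¹ : R) • (zc b Q hn - zbc b Q hn), Subtype.ext (Subtype.ext ?_)⟩
  show (zEl b Q hn - (algebraMap R _ (pEl b Q hn) - zEl b Q hn)) *
      ((↑d⁻¹ : R) • (zEl b Q hn - (algebraMap R _ (pEl b Q hn) - zEl b Q hn))) = 1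
  rw [show zEl b Q hn - (algebraMap R _ (pEl b Q hn) - zEl b Q hn) = wEl b Q by
      rw [wEl_eq b Q hn, two_smul]; abel,
    mul_smul_comm, wEl_sq_even b Q hn, Algebra.smul_def, ← hd, ← map_mul, Units.inv_mul, map_one]

include b hn hQ hm in
theorem exists_eq (c : Zc Q) : ∃ a r : R, c = algebraMap R _ a + r • zc b Q hn := by
  obtain ⟨a, r, h⟩ := exists_of_comm_pairs b Q hn hQ hm (x := ((c : Ev Q) : CliffordAlgebra Q)) (c : Ev Q).2
    fun v w => (congrArg Subtype.val (Subalgebra.mem_center_iff.mp c.2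
      ⟨ι Q v * ι Q w, ι_mul_ι_mem_evenOdd_zero Q v w⟩)).symm
  exact ⟨a, r, Subtype.ext (Subtype.ext h)⟩

/-- The quadratic polynomial of the generator. -/
noncomputable def qpoly (q : R) : R[X] := X ^ 2 - (C (pEl b Q hn) * X + C q)

theorem monic_qpoly (q : R) : (qpoly b Q hn q).Monic :=
  monic_X_pow_sub ((degree_linear_le).trans_lt (by decide))

include b hn hQ hm in
theorem center_basis : Nonempty (Module.Basis (Fin 2) R (Zc Q)) := by
  refine ⟨Module.Basis.mk (v := ![1, zc b Q hn]) ?_ ?_⟩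
  · rw [LinearIndependent.pair_iff]
    intro s t h
    refine zEl_indep b Q hn hQ hm ?_
    have := congrArg (fun c : Zc Q => ((c : Ev Q) : CliffordAlgebra Q)) h
    rw [Algebra.algebraMap_eq_smul_one]
    exact this
  · rintro c -
    obtain ⟨a, r, rfl⟩ := exists_eq b Q hn hQ hm c
    rw [Algebra.algebraMap_eq_smul_one]
    exact Submodule.add_mem _ (Submodule.smul_mem _ _ (Submodule.subset_span ⟨0, rfl⟩))
      (Submodule.smul_mem _ _ (Submodule.subset_span ⟨1, rfl⟩))

include b hn hQ hm in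
/-- The centre of the even part is étale. -/
theorem center_etale : Algebra.Etale R (Zc Q) := by
  obtain ⟨q, hq, hD⟩ := exists_zEl_sq b Q hn
  obtain ⟨d, hd⟩ := ((isUnit_neg_one (α := R)).pow m).mul (isUnit_det_polMat b Q hQ)
  rw [hD] at hd
  set p := pEl b Q hn with hp
  let f := qpoly b Q hn q
  have hf : f.Monic := monic_qpoly b Q hn q
  have hfd : derivative f = C 2 * X - C p := by
    simp only [f, qpoly, hp, derivative_sub, derivative_add, derivative_X_pow, derivative_mul, derivative_C,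
      derivative_X]
    simp
  have hdd : C (d : R) = C p * C p + 4 * C q := by rw [hd, map_add, map_mul, map_mul, map_ofNat]
  let P : StandardEtalePair R :=
    { f := f, monic_f := hf, g := 1
      cond := ⟨C (↑d⁻¹ : R) * (C 2 * X - C p), -(C (↑d⁻¹ : R) * 4), 1, by
        rw [hfd, pow_one]
        have h1 : C (↑d⁻¹ : R) * C (d : R) = 1 := by rw [← map_mul, Units.inv_mul, map_one]
        rw [hdd] at h1
        simp only [f, qpoly, ← hp, map_ofNat]
        linear_combination h1⟩ }
  haveI : Algebra.IsStandardEtale R (AdjoinRoot f) := by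
    have hmap : P.HasMap (AdjoinRoot.root f) := ⟨by rw [AdjoinRoot.aeval_eq, AdjoinRoot.mk_self], by simp [P]⟩
    let inv := AdjoinRoot.liftAlgHom f (Algebra.ofId R P.Ring) P.X P.hasMap_X.1
    refine ⟨⟨⟨P, AdjoinRoot.root f, hmap, ?_⟩⟩⟩
    have hroot : inv (AdjoinRoot.root f) = P.X := AdjoinRoot.liftAlgHom_root _ _ _ _
    refine Function.bijective_iff_has_inverse.2 ⟨inv, ?_, ?_⟩
    · refine fun x => AlgHom.congr_fun (show inv.comp (P.lift _ hmap) = .id R _ from P.hom_ext ?_) x
      rw [AlgHom.comp_apply, P.lift_X]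
      exact AdjoinRoot.liftAlgHom_root _ _ _ _
    · refine fun x => AlgHom.congr_fun (show (P.lift _ hmap).comp inv = .id R _ from AdjoinRoot.algHom_ext ?_) x
      rw [AlgHom.comp_apply, hroot, P.lift_X]
      rfl
  have hzero : aeval (zc b Q hn) f = 0 := by
    refine Subtype.ext (Subtype.ext ?_)
    simp only [f, qpoly, map_sub, map_add, map_mul, map_pow, aeval_X, aeval_C, Subalgebra.coe_sub,
      Subalgebra.coe_add, Subalgebra.coe_mul, pow_two, Subalgebra.coe_algebraMap, coe_zc]
    rw [hq, ← Algebra.smul_def, sub_self]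
    rfl
  let ψ := AdjoinRoot.liftAlgHom f (Algebra.ofId R (Zc Q)) (zc b Q hn) hzero
  have hψ : Function.Bijective ψ := by
    refine ⟨(injective_iff_map_eq_zero ψ).2 fun x hx => ?_, fun c => ?_⟩
    · obtain ⟨g, rfl⟩ := AdjoinRoot.mk_surjective x
      rcases subsingleton_or_nontrivial (AdjoinRoot f) with _ | _
      · exact Subsingleton.elim _ _
      haveI : Nontrivial R := (algebraMap R (AdjoinRoot f)).domain_nontrivial
      have hg := (modByMonic_add_div g f).symm
      have hfd2 : f.natDegree = 2 := by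
        simp only [f, qpoly]; compute_degree!
      obtain ⟨r, a, hra⟩ := exists_eq_X_add_C_of_natDegree_le_one (p := g %ₘ f)
        (Nat.lt_succ_iff.1 ((natDegree_modByMonic_lt g hf fun h => by simp [h] at hfd2).trans_eq hfd2))
      have hmk : AdjoinRoot.mk f g = algebraMap R _ a + r • AdjoinRoot.root f := by
        rw [hg, map_add, map_mul, AdjoinRoot.mk_self, zero_mul, add_zero, hra, map_add, map_mul, AdjoinRoot.mk_C,
          AdjoinRoot.mk_X, AdjoinRoot.mk_C, Algebra.smul_def, AdjoinRoot.algebraMap_eq, add_comm]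
      rw [hmk, map_add, map_smul, AlgHom.commutes] at hx
      rw [show ψ (AdjoinRoot.root f) = zc b Q hn from AdjoinRoot.liftAlgHom_root _ _ _ _] at hx
      obtain ⟨rfl, rfl⟩ := zEl_indep b Q hn hQ hm
        (congrArg (fun c : Zc Q => ((c : Ev Q) : CliffordAlgebra Q)) hx)
      rw [hmk, map_zero, zero_smul, add_zero]
    · obtain ⟨a, r, rfl⟩ := exists_eq b Q hn hQ hm c
      refine ⟨algebraMap R _ a + r • AdjoinRoot.root f, ?_⟩
      rw [map_add, map_smul, AlgHom.commutes]
      exact congrArg (fun t => algebraMap R (Zc Q) a + r • t) (AdjoinRoot.liftAlgHom_root _ _ _ _)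
  haveI := Algebra.IsStandardEtale.of_equiv (AlgEquiv.ofBijective ψ hψ)
  infer_instance

/-! ## The two-sided multiplication map -/

/-- Inclusion into the tensor square of the whole algebra. -/
noncomputable def incl : Ev Q ⊗[R] (Ev Q)ᵐᵒᵖ →ₐ[R] CliffordAlgebra Q ⊗[R] (CliffordAlgebra Q)ᵐᵒᵖ :=
  Algebra.TensorProduct.map (CliffordAlgebra.even Q).val (AlgHom.op (CliffordAlgebra.even Q).val)

/-- Its retraction. -/
noncomputable def retr : CliffordAlgebra Q ⊗[R] (CliffordAlgebra Q)ᵐᵒᵖ →ₗ[R] Ev Q ⊗[R] (Ev Q)ᵐᵒᵖ :=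
  TensorProduct.map (pr Q) ((opLinearEquiv R).toLinearMap ∘ₗ pr Q ∘ₗ (opLinearEquiv R).symm.toLinearMap)

theorem retr_incl (u : Ev Q ⊗[R] (Ev Q)ᵐᵒᵖ) : retr Q (incl Q u) = u := by
  induction u using TensorProduct.induction_on with
  | zero => simp
  | tmul x y =>
    show pr Q (x : CliffordAlgebra Q) ⊗ₜ[R] op (pr Q (y.unop : CliffordAlgebra Q)) = _
    rw [pr_coe, pr_coe, op_unop]
  | add x y hx hy => simp [hx, hy]

/-- Passing from tensors over `R` to tensors over the centre. -/
noncomputable def quot : Ev Q ⊗[R] (Ev Q)ᵐᵒᵖ →ₐ[R] Ev Q ⊗[Zc Q] (Ev Q)ᵐᵒᵖ :=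
  Algebra.TensorProduct.mapOfCompatibleSMul (Zc Q) R R _ _

theorem mulLeftRight_quot (u : Ev Q ⊗[R] (Ev Q)ᵐᵒᵖ) (x : Ev Q) :
    ((AlgHom.mulLeftRight (Zc Q) (Ev Q) (quot Q u) x : Ev Q) : CliffordAlgebra Q) =
      sandwich Q (incl Q u) x := by
  induction u using TensorProduct.induction_on with
  | zero => simp
  | tmul a c => simp [quot, incl]
  | add a c ha hc => simp [ha, hc]

theorem sandwich_odd (u : Ev Q ⊗[R] (Ev Q)ᵐᵒᵖ) {x : CliffordAlgebra Q} (hx : x ∈ evenOdd Q 1) :
    sandwich Q (incl Q u) x ∈ evenOdd Q 1 := by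
  induction u using TensorProduct.induction_on with
  | zero => simp
  | tmul a c =>
    have : sandwich Q (incl Q (a ⊗ₜ c)) x = (a : CliffordAlgebra Q) * x * (c.unop : CliffordAlgebra Q) := by
      simp [incl]
    rw [this]
    exact mul_mem_grade Q (add_zero 1) (mul_mem_grade Q (zero_add 1) a.2 hx) c.unop.2
  | add a c ha hc => simpa using Submodule.add_mem _ ha hc

include b hn hQ in
theorem mulLeftRight_bijective : Function.Bijective (AlgHom.mulLeftRight (Zc Q) (Ev Q)) := by
  obtain ⟨w, hw⟩ := exists_wc b Q hn hQ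
  set z := zc b Q hn with hz
  set zb := zbc b Q hn with hzb
  have hzy : ∀ y ∈ evenOdd Q 1, ((zb : Ev Q) : CliffordAlgebra Q) * y = y * ((z : Ev Q) : CliffordAlgebra Q) :=
    fun y hy => (zEl_comm_odd b Q hn hy).symm
  have hyz : ∀ y ∈ evenOdd Q 1, ((z : Ev Q) : CliffordAlgebra Q) * y = y * ((zb : Ev Q) : CliffordAlgebra Q) :=
    fun y hy => by
    rw [hz, hzb, coe_zbc, coe_zc, mul_sub, zEl_comm_odd b Q hn hy, ← Algebra.commutes, sub_mul]
    abel
  refine ⟨(injective_iff_map_eq_zero _).2 fun v hv => ?_, fun f => ?_⟩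
  · obtain ⟨u, rfl⟩ : ∃ u, quot Q u = v :=
      Algebra.TensorProduct.mapOfCompatibleSMul_surjective (Zc Q) R R _ _ v
    let e : Ev Q ⊗[R] (Ev Q)ᵐᵒᵖ :=
      ((z * w : Zc Q) : Ev Q) ⊗ₜ op 1 - (w : Ev Q) ⊗ₜ op (zb : Ev Q)
    have he : quot Q e = 1 := by
      have e1 : (w : Ev Q) ⊗ₜ[Zc Q] op (zb : Ev Q) = ((zb * w : Zc Q) : Ev Q) ⊗ₜ[Zc Q] op 1 := by
        rw [show op (zb : Ev Q) = zb • op (1 : Ev Q) by
          rw [← op_smul, Algebra.smul_def, mul_one]; rfl]
        exact ((TensorProduct.mk (Zc Q) (Ev Q) (Ev Q)ᵐᵒᵖ (w : Ev Q)).map_smul zb (op 1)).trans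
          ((((TensorProduct.mk (Zc Q) (Ev Q) (Ev Q)ᵐᵒᵖ).flip (op 1)).map_smul zb (w : Ev Q)).symm.trans rfl)
      show ((z * w : Zc Q) : Ev Q) ⊗ₜ[Zc Q] op 1 - (w : Ev Q) ⊗ₜ[Zc Q] op (zb : Ev Q) = 1
      rw [e1, ← TensorProduct.sub_tmul,
        show ((z * w : Zc Q) : Ev Q) - ((zb * w : Zc Q) : Ev Q) = 1 from
          congrArg (fun c : Zc Q => (c : Ev Q)) ((sub_mul z zb w).symm.trans hw)]
      rfl
    have h0 : sandwich Q (incl Q (e * u)) = 0 := by
      refine LinearMap.ext fun y => ?_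
      obtain ⟨y0, hy0, y1, hy1, rfl⟩ := exists_even_odd_decomp Q y
      have h0' : sandwich Q (incl Q u) y0 = 0 := by
        rw [← mulLeftRight_quot Q u ⟨y0, hy0⟩, hv]
        rfl
      set y' := sandwich Q (incl Q u) y1 with hy'
      have h1' : sandwich Q (incl Q e) y' = 0 := by
        have hy'1 : y' ∈ evenOdd Q 1 := sandwich_odd Q u hy1
        have : sandwich Q (incl Q e) y' = ((z : Ev Q) : CliffordAlgebra Q) * ((w : Ev Q) : CliffordAlgebra Q) * y' -
            ((w : Ev Q) : CliffordAlgebra Q) * y' * ((zb : Ev Q) : CliffordAlgebra Q) := by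
          simp [e, incl]
        rw [this, show ((z : Ev Q) : CliffordAlgebra Q) * ((w : Ev Q) : CliffordAlgebra Q) =
            ((w : Ev Q) : CliffordAlgebra Q) * ((z : Ev Q) : CliffordAlgebra Q) from
              congrArg (fun c : Zc Q => ((c : Ev Q) : CliffordAlgebra Q)) (mul_comm z w),
          mul_assoc, hyz y' hy'1, mul_assoc, sub_self]
      rw [map_mul, map_mul, Module.End.mul_apply, map_add, h0', zero_add, ← hy', h1', LinearMap.zero_apply]
    have h1 : e * u = 0 := by
      have := (sandwich_bijective b Q hn hQ).1 (h0.trans (map_zero _).symm)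
      rw [← retr_incl Q (e * u), this, map_zero]
    have := congrArg (quot Q) h1
    rwa [map_mul, he, one_mul, map_zero] at this
  · obtain ⟨U, hU⟩ := (sandwich_bijective b Q hn hQ).2
      ((CliffordAlgebra.even Q).val.toLinearMap ∘ₗ f.restrictScalars R ∘ₗ pr Q)
    refine ⟨quot Q (retr Q U), LinearMap.ext fun x => ?_⟩
    set E := AlgHom.mulLeftRight (Zc Q) (Ev Q) (quot Q (retr Q U)) with hE
    have hG : ∀ (V : CliffordAlgebra Q ⊗[R] (CliffordAlgebra Q)ᵐᵒᵖ) (x : Ev Q),
        ((zb : Ev Q) : CliffordAlgebra Q) * ((pr Q (sandwich Q V x) : CliffordAlgebra Q) -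
            sandwich Q (incl Q (retr Q V)) x) =
          (pr Q (sandwich Q V ((z • x : Ev Q) : CliffordAlgebra Q)) : CliffordAlgebra Q) -
            sandwich Q (incl Q (retr Q V)) ((z • x : Ev Q) : CliffordAlgebra Q) := by
      intro V x
      induction V using TensorProduct.induction_on with
      | zero => simp
      | tmul a c =>
        obtain ⟨c, rfl⟩ := op_surjective c
        have es : ∀ y : Ev Q, (pr Q (sandwich Q (a ⊗ₜ op c) y) : CliffordAlgebra Q) -
            sandwich Q (incl Q (retr Q (a ⊗ₜ op c))) y = (a - pr Q a) * y * (c - pr Q c) := fun y => by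
          have : sandwich Q (incl Q (retr Q (a ⊗ₜ op c))) y = (pr Q a : CliffordAlgebra Q) * y * pr Q c := by
            simp [incl, retr]
          rw [this, show sandwich Q (a ⊗ₜ op c) y = a * y * c by simp, pr_mul_mul, add_sub_cancel_left]
        rw [es, es, show ((z • x : Ev Q) : CliffordAlgebra Q) = ((z : Ev Q) : CliffordAlgebra Q) * x from rfl,
          ← mul_assoc, ← mul_assoc, ← mul_assoc (a - pr Q a : CliffordAlgebra Q)]
        congr 2
        obtain ⟨a0, ha0, a1, ha1, rfl⟩ := exists_even_odd_decomp Q a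
        rw [map_add, pr_of_odd Q ha1, add_zero, pr_of_even Q ha0, add_sub_cancel_left, hzy a1 ha1]
      | add V W hV hW =>
        simp only [map_add, LinearMap.add_apply, Subalgebra.coe_add, add_sub_add_comm, mul_add, hV, hW]
    have hf : ∀ y : Ev Q, (pr Q (sandwich Q U y) : CliffordAlgebra Q) - sandwich Q (incl Q (retr Q U)) y =
        ((f y - E y : Ev Q) : CliffordAlgebra Q) := fun y => by
      rw [hU, ← mulLeftRight_quot]
      simp [hE, pr_coe]
    have h := hG U x
    rw [hf, hf] at h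
    have h' : (zb : Ev Q) * (f x - E x) = f (z • x) - E (z • x) := Subtype.ext h
    rw [map_smul, map_smul, Algebra.smul_def, Algebra.smul_def, algebraMap_zc, ← mul_sub] at h'
    have h2 : ((z - zb : Zc Q) : Ev Q) * (f x - E x) = 0 := by
      rw [Subalgebra.coe_sub, sub_mul, h', sub_self]
    have h3 := congrArg (fun t => ((w : Ev Q)) * t) h2
    simp only [mul_zero, ← mul_assoc, ← Subalgebra.coe_mul, mul_comm w, hw, OneMemClass.coe_one, one_mul] at h3
    exact (sub_eq_zero.1 h3).symm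

include b hn hQ hm in
theorem isAzumaya : IsAzumaya (Zc Q) (Ev Q) := by
  haveI := center_etale b Q hn hQ hm
  haveI : Module.Finite R (CliffordAlgebra Q) := finite_clifford b Q
  haveI : Module.Free R (CliffordAlgebra Q) := free_clifford b Q
  haveI : Module.Projective R (Ev Q) :=
    Module.Projective.of_split (CliffordAlgebra.even Q).val.toLinearMap (pr Q) (LinearMap.ext (pr_coe Q))
  haveI : Module.Finite R (Ev Q) := Module.Finite.of_surjective (pr Q) fun x => ⟨x, pr_coe Q x⟩
  exact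
    { toProjective := Algebra.FormallyUnramified.projective_of_restrictScalars R (Zc Q) (Ev Q)
      toFaithfulSMul := (faithfulSMul_iff_algebraMap_injective _ _).2 Subtype.val_injective
      toFinite := Module.Finite.of_restrictScalars_finite R (Zc Q) (Ev Q)
      bij := mulLeftRight_bijective b Q hn hQ }

end Groth.Agent.EvenCliff
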